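import Groth.Agent.PnCoh.Global
import Groth.Agent.H23.Frame
import Groth.Agent.RingPO.ChartPushout
import Groth.Prelude.Def_CohB1

/-! Finite schemes over projective space with free direct image of the structure sheaf. -/

set_option autoImplicit false
set_option linter.style.haveILetI false
set_option backward.isDefEq.respectTransparency false
set_option backward.isDefEq.respectTransparency.types false

universe u

open CategoryTheory CategoryTheory.Limits AlgebraicGeometry Opposite TensorProduct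

noncomputable section

namespace Groth.Agent.PnFreePush

variable {P F : Scheme.{u}} (f : F ⟶ P)

/-- The combination of restricted global functions of `F` with coefficients on `P`. -/
def comb {d : ℕ} (b : Fin d → Γ(F, ⊤)) (U : P.Opens) (c : Fin d → Γ(P, U)) : Γ(F, f ⁻¹ᵁ U) :=
  ∑ i, f.app U (c i) * F.presheaf.map (homOfLE le_top).op (b i)

theorem exists_basis {d : ℕ}
    (e : (Scheme.Modules.pushforward f).obj (SheafOfModules.unit F.ringCatSheaf) ≅
      ∐ fun _ : ULift.{u} (Fin d) => (SheafOfModules.unit P.ringCatSheaf : P.Modules)) :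
    ∃ b : Fin d → Γ(F, ⊤), ∀ U : P.Opens, Function.Bijective (comb f b U) := by
  let M : P.Modules := (Scheme.Modules.pushforward f).obj (SheafOfModules.unit F.ringCatSheaf)
  let e' : M ≅ FlatMod.freeMod P d :=
    e ≪≫ Sigma.whiskerEquiv (f := fun _ : ULift.{u} (Fin d) => (SheafOfModules.unit P.ringCatSheaf : P.Modules))
      (g := fun _ : Fin d => Coh.structureModule P) Equiv.ulift (fun _ => Iso.refl _)
  let t : Fin d → Γ(M, ⊤) := fun i =>
    e'.inv.app ⊤ ((H23.Frame.incl P d i).app ⊤ (H23.Frame.one ⊤))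
  refine ⟨t, fun U => ?_⟩
  have hU := H23.Frame.incl_isFrame (X := P) (n := d) U le_top
  have hb : Function.Bijective (e'.inv.app U : Γ(FlatMod.freeMod P d, U) → Γ(M, U)) := by
    refine Function.bijective_iff_has_inverse.mpr ⟨e'.hom.app U, fun x => ?_, fun x => ?_⟩
    · show (e'.inv ≫ e'.hom).app U x = x
      rw [e'.inv_hom_id]; rfl
    · show (e'.hom ≫ e'.inv).app U x = x
      rw [e'.hom_inv_id]; rfl
  have heq : comb f t U = fun c => e'.inv.app U
      (H23.Frame.comb (FlatMod.freeMod P d) (fun i => (H23.Frame.incl P d i).app ⊤ (H23.Frame.one ⊤)) U le_top c) := by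
    funext c
    rw [H23.Frame.comb, map_sum]
    refine Finset.sum_congr rfl fun i _ => ?_
    rw [Scheme.Modules.Hom.app_smul]
    exact congrArg (fun m : Γ(M, U) => c i • m)
      (ConcreteCategory.congr_hom (e'.inv.mapPresheaf.naturality (homOfLE (le_top (a := U))).op)
        ((H23.Frame.incl P d i).app ⊤ (H23.Frame.one ⊤))).symm
  rw [heq]
  exact hb.comp hU

variable {k : Type u} [Field k] (π : P ⟶ Spec (CommRingCat.of k))

/-- The structure map of the ring of global functions. -/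
def str {X : Scheme.{u}} (g : X ⟶ Spec (CommRingCat.of k)) : CommRingCat.of k ⟶ Γ(X, ⊤) :=
  (Scheme.ΓSpecIso (CommRingCat.of k)).inv ≫ g.appTop

theorem toSpecΓ_str {X : Scheme.{u}} (g : X ⟶ Spec (CommRingCat.of k)) : X.toSpecΓ ≫ Spec.map (str g) = g := by
  rw [str, Spec.map_comp, ← Category.assoc, ← Scheme.toSpecΓ_naturality, Category.assoc,
    toSpecΓ_SpecMap_ΓSpecIso_inv, Category.comp_id]

theorem isPushout_affine {d : ℕ} (b : Fin d → Γ(F, ⊤)) (hb : ∀ U : P.Opens, Function.Bijective (comb f b U))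
    (hΓ : Function.Bijective (str π)) (U : P.Opens) :
    IsPushout (str π ≫ f.appTop) (str π ≫ P.presheaf.map (homOfLE le_top).op)
      (F.presheaf.map (homOfLE (le_top (a := f ⁻¹ᵁ U))).op) (f.app U) := by
  let a : CommRingCat.of k ⟶ Γ(F, ⊤) := str π ≫ f.appTop
  let r : CommRingCat.of k ⟶ Γ(P, U) := str π ≫ P.presheaf.map (homOfLE le_top).op
  let j : Γ(F, ⊤) ⟶ Γ(F, f ⁻¹ᵁ U) := F.presheaf.map (homOfLE le_top).op
  let q : Γ(P, U) ⟶ Γ(F, f ⁻¹ᵁ U) := f.app U
  have hw : r ≫ q = a ≫ j := by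
    simp only [r, q, a, j, Category.assoc]
    rw [f.naturality]; rfl
  letI : Algebra k Γ(F, ⊤) := a.hom.toAlgebra
  letI : Algebra k Γ(P, U) := r.hom.toAlgebra
  letI : Algebra Γ(F, ⊤) Γ(F, f ⁻¹ᵁ U) := j.hom.toAlgebra
  letI : Algebra Γ(P, U) Γ(F, f ⁻¹ᵁ U) := q.hom.toAlgebra
  letI : Algebra k Γ(F, f ⁻¹ᵁ U) := (a ≫ j).hom.toAlgebra
  haveI : IsScalarTower k Γ(F, ⊤) Γ(F, f ⁻¹ᵁ U) := IsScalarTower.of_algebraMap_eq fun _ => rfl
  haveI : IsScalarTower k Γ(P, U) Γ(F, f ⁻¹ᵁ U) :=
    IsScalarTower.of_algebraMap_eq fun x => (congrArg (fun g => (CommRingCat.Hom.hom g) x) hw).symm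
  have hbk : Function.Bijective (fun c : Fin d → k => ∑ i, c i • b i) := by
    have h := (hb ⊤).comp (f := fun c : Fin d → k => fun i => str π (c i))
      ⟨fun _ _ h => funext fun i => hΓ.1 (congrFun h i),
        fun z => ⟨fun i => (hΓ.2 (z i)).choose, funext fun i => (hΓ.2 (z i)).choose_spec⟩⟩
    have e0 : (fun c : Fin d → k => ∑ i, c i • b i) = comb f b ⊤ ∘ fun c i => str π (c i) := by
      funext c
      refine Finset.sum_congr rfl fun i _ => ?_
      show a (c i) * b i = f.app ⊤ (str π (c i)) * F.presheaf.map (homOfLE le_top).op (b i)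
      rw [Subsingleton.elim (homOfLE (le_top (a := f ⁻¹ᵁ (⊤ : P.Opens)))).op (𝟙 (op ⊤))]
      erw [CategoryTheory.Functor.map_id]
      rfl
    rw [e0]
    exact h
  let bk : Module.Basis (Fin d) k Γ(F, ⊤) := Module.Basis.ofEquivFun (LinearEquiv.ofBijective
    (Fintype.linearCombination k b) (by
      convert hbk using 1
      funext c
      exact Fintype.linearCombination_apply k b c)).symm
  have hbk_apply : ∀ i, bk i = b i := fun i => by
    simp [bk, Fintype.linearCombination_apply]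
  let g : Γ(F, ⊤) →ₗ[k] Γ(F, f ⁻¹ᵁ U) := (IsScalarTower.toAlgHom k Γ(F, ⊤) Γ(F, f ⁻¹ᵁ U)).toLinearMap
  have hbc : IsBaseChange Γ(P, U) g := by
    let L := g.liftBaseChange Γ(P, U)
    have hL : Function.Bijective L := by
      have h2 : ⇑L ∘ ⇑(Algebra.TensorProduct.basis Γ(P, U) bk).equivFun.symm = comb f b U := by
        funext c
        show L ((Algebra.TensorProduct.basis Γ(P, U) bk).equivFun.symm c) = _
        rw [Module.Basis.equivFun_symm_apply, map_sum]
        refine Finset.sum_congr rfl fun i _ => ?_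
        rw [map_smul, Algebra.TensorProduct.basis_apply, hbk_apply, LinearMap.liftBaseChange_tmul, one_smul,
          Algebra.smul_def]
        rfl
      have := hb U
      rw [← h2] at this
      exact (Function.Bijective.of_comp_iff _ (LinearEquiv.bijective _)).1 this
    exact IsBaseChange.of_equiv (LinearEquiv.ofBijective L hL) fun x => by
      simp [L, LinearMap.liftBaseChange_tmul]
  haveI : Algebra.IsPushout k Γ(P, U) Γ(F, ⊤) Γ(F, f ⁻¹ᵁ U) := ⟨hbc⟩
  haveI : Algebra.IsPushout k Γ(F, ⊤) Γ(P, U) Γ(F, f ⁻¹ᵁ U) := Algebra.IsPushout.symm ‹_›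
  exact CommRingCat.isPushout_of_isPushout k Γ(F, ⊤) Γ(P, U) Γ(F, f ⁻¹ᵁ U)

theorem isPullback_const [IsAffineHom f] {d : ℕ} (b : Fin d → Γ(F, ⊤))
    (hb : ∀ U : P.Opens, Function.Bijective (comb f b U)) (hΓ : Function.Bijective (str π)) :
    IsPullback F.toSpecΓ f (Spec.map (str π ≫ f.appTop)) π := by
  have w : F.toSpecΓ ≫ Spec.map (str π ≫ f.appTop) = f ≫ π := by
    rw [show str π ≫ f.appTop = str (f ≫ π) by simp [str]]
    exact toSpecΓ_str (f ≫ π)
  refine RingPO.isPullback_of_cover w (fun U : P.affineOpens => ((U : P.Opens) : Scheme.{u}))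
    (fun U => ((f ⁻¹ᵁ (U : P.Opens)) : Scheme.{u})) (fun U => U.1.ι) (fun x => ?_)
    (fun U => (f ⁻¹ᵁ (U : P.Opens)).ι) (fun U => f ∣_ U.1) (fun U => ?_) (fun U => ?_)
  · obtain ⟨_, ⟨V, hV, rfl⟩, hx, -⟩ :=
      P.isBasis_affineOpens.exists_subset_of_mem_open (Set.mem_univ x) isOpen_univ
    exact ⟨⟨V, hV⟩, by rw [Scheme.Opens.range_ι]; exact hx⟩
  · exact (isPullback_morphismRestrict f U.1).flip
  · obtain ⟨U, hU⟩ := U
    have hV : IsAffineOpen (f ⁻¹ᵁ U) := hU.preimage f
    have h := isPullback_SpecMap_of_isPushout _ _ _ _ (isPushout_affine f π b hb hΓ U)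
    refine h.of_iso hV.isoSpec.symm (Iso.refl _) hU.isoSpec.symm (Iso.refl _) ?_ ?_ ?_ ?_
    · rw [Iso.refl_hom, Category.comp_id, Iso.symm_hom, ← cancel_epi hV.isoSpec.hom, Iso.hom_inv_id_assoc,
        IsAffineOpen.isoSpec_hom]
      exact Scheme.Opens.toSpecΓ_SpecMap_presheaf_map_top _
    · simp only [Iso.symm_hom]
      rw [← cancel_mono hU.isoSpec.hom, Category.assoc, Category.assoc, Iso.inv_hom_id, Category.comp_id,
        ← cancel_epi hV.isoSpec.hom, Iso.hom_inv_id_assoc, IsAffineOpen.isoSpec_hom, IsAffineOpen.isoSpec_hom]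
      exact Scheme.Opens.toSpecΓ_naturality f U
    · simp
    · rw [Iso.refl_hom, Category.comp_id, Iso.symm_hom, ← cancel_epi hU.isoSpec.hom, Iso.hom_inv_id_assoc,
        IsAffineOpen.isoSpec_hom, Spec.map_comp, ← Category.assoc, Scheme.Opens.toSpecΓ_SpecMap_presheaf_map_top,
        Category.assoc, toSpecΓ_str]

end Groth.Agent.PnFreePush
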